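/-
General lemmas for the groups `Y_{pqr}`: homomorphisms from groups presented by a Coxeter graph and
further relators, values of words under homomorphisms, and the symmetry of the spider relation under
the permutations of the three arms.
-/
import Cfsg.Agent.Lib.Helper28.OrdLemmas
import Cfsg.Prelude.Def_SporCoxeter

set_option autoImplicit false

namespace Cfsg.Agent.Lib.Helper28.Y555

open Cfsg.Agent.Lib.Helper28.TC
open Cfsg.Spor

section Cox

variable {α : Type} [DecidableEq α]

/-- the Coxeter relation between two nodes holds in the presented group -/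
theorem cox_rel (edges : List (α × ℕ × α)) (extra : List (FreeGroup α)) (x y : α)
    (hx : x ∈ coxNodes edges) (hy : y ∈ coxNodes edges) :
    (pval (coxRelators edges ∪ {r | r ∈ extra}) x * pval (coxRelators edges ∪ {r | r ∈ extra}) y) ^
      coxLabel edges x y = 1 := by
  have h : (FreeGroup.of x * FreeGroup.of y) ^ coxLabel edges x y ∈
      coxRelators edges ∪ {r | r ∈ extra} := Or.inl ⟨x, hx, y, hy, rfl⟩
  have h2 := PresentedGroup.one_of_mem h
  rw [map_pow, map_mul] at h2
  exact h2

/-- a further relator holds in the presented group -/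
theorem extra_rel (edges : List (α × ℕ × α)) (extra : List (FreeGroup α)) (r : FreeGroup α)
    (hr : r ∈ extra) : PresentedGroup.mk (coxRelators edges ∪ {r | r ∈ extra}) r = 1 :=
  PresentedGroup.one_of_mem (Or.inr hr)

/-- a homomorphism from a group presented by a Coxeter graph and further relators -/
theorem exists_hom_cox {H : Type*} [Group H] (edges : List (α × ℕ × α))
    (extra : List (FreeGroup α)) (f : α → H)
    (hcox : ∀ x y, (f x * f y) ^ coxLabel edges x y = 1)
    (hextra : ∀ r ∈ extra, FreeGroup.lift f r = 1) :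
    ∃ ψ : PresentedGroup (coxRelators edges ∪ {r | r ∈ extra}) →* H,
      ∀ x, ψ (pval (coxRelators edges ∪ {r | r ∈ extra}) x) = f x := by
  have h : ∀ r ∈ coxRelators edges ∪ {r | r ∈ extra}, FreeGroup.lift f r = 1 := by
    rintro r (⟨x, _, y, _, rfl⟩ | hr)
    · rw [map_pow, map_mul, FreeGroup.lift_apply_of, FreeGroup.lift_apply_of]
      exact hcox x y
    · exact hextra r hr
  exact ⟨PresentedGroup.toGroup h, fun x => PresentedGroup.toGroup.of h⟩

end Cox

section Words

variable {α β : Type} {G H : Type*} [Group G] [Group H]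

theorem map_wval (φ : G →* H) (val : α → G) (w : List α) :
    φ (wval val w) = wval (fun x => φ (val x)) w := by
  induction w with
  | nil => simp [wval]
  | cons x w ih => rw [wval_cons, wval_cons, map_mul, ih]

theorem wval_congr (val val' : α → G) (h : ∀ x, val x = val' x) (w : List α) :
    wval val w = wval val' w := by
  have : val = val' := funext h
  rw [this]

theorem wval_const (c : G) (w : List α) : wval (fun _ => c) w = c ^ w.length := by
  induction w with
  | nil => simp [wval]
  | cons x w ih => rw [wval_cons, ih, List.length_cons, pow_succ']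

theorem wval_pow (val : α → G) (w : List α) (n : ℕ) :
    wval val (List.replicate n w).flatten = wval val w ^ n := by
  induction n with
  | zero => simp [wval]
  | succ n ih => rw [List.replicate_succ, List.flatten_cons, wval_append, ih, pow_succ']

end Words

section Small

/-- in a group with at most two elements, two non-trivial elements are equal -/
theorem eq_of_card_le_two {K : Type*} [Group K] [Finite K] (h : Nat.card K ≤ 2) (z x : K)
    (hz : z ≠ 1) (hx : x ≠ 1) : x = z := by
  classical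
  by_contra hne
  have : Fintype K := Fintype.ofFinite K
  have h3 : ({1, z, x} : Finset K).card = 3 := by
    rw [Finset.card_insert_of_notMem, Finset.card_insert_of_notMem, Finset.card_singleton]
    · simpa using Ne.symm hne
    · simp [Ne.symm hz, Ne.symm hx]
  have h4 := Finset.card_le_univ ({1, z, x} : Finset K)
  rw [h3, ← Nat.card_eq_fintype_card] at h4
  omega

end Small

/-! ### The symmetry of the spider relation -/

section Spider

variable {G : Type*} [Group G]

theorem pow_eq_one_of_conj_invol (c w : G) (hc : c * c = 1) (n : ℕ) (h : (c * w * c) ^ n = 1) :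
    w ^ n = 1 := by
  have hc' : c⁻¹ = c := inv_eq_of_mul_eq_one_left hc
  have h2 : (c * w * c⁻¹) ^ n = 1 := by rw [hc']; exact h
  rw [conj_pow] at h2
  have h3 : w ^ n = c⁻¹ * (c * w ^ n * c⁻¹) * c := by group
  rw [h3, h2]; group

/-- the spider relation is invariant under the rotation of the arms -/
theorem spider_rot (a b1 c1 b2 c2 b3 c3 : G) (n : ℕ)
    (h : (a * b1 * c1 * a * b2 * c2 * a * b3 * c3) ^ n = 1) :
    (a * b2 * c2 * a * b3 * c3 * a * b1 * c1) ^ n = 1 := by
  have e : a * b2 * c2 * a * b3 * c3 * a * b1 * c1 =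
      (a * b1 * c1)⁻¹ * (a * b1 * c1 * a * b2 * c2 * a * b3 * c3) * ((a * b1 * c1)⁻¹)⁻¹ := by group
  rw [e, conj_pow, h]; group

/-- the inverse of an arm word -/
theorem arm_inv (a b c : G) (ha : a * a = 1) (hb : b * b = 1) (hc : c * c = 1)
    (hca : c * a = a * c) : (a * b * c)⁻¹ = a * c * (a * b * c) * c * a := by
  apply inv_eq_of_mul_eq_one_right
  have e1 : c * a * c = a := by rw [hca, mul_assoc, hc, mul_one]
  calc a * b * c * (a * c * (a * b * c) * c * a)
      = a * b * (c * a * c) * (a * b * (c * c)) * a := by group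
    _ = a * b * a * (a * b * 1) * a := by rw [e1, hc]
    _ = a * b * (a * a) * b * a := by group
    _ = a * (b * b) * a := by rw [ha]; group
    _ = 1 := by rw [hb, mul_one, ha]

/-- reversal of a product of three elements, each inverted by the same kind of conjugation -/
theorem rev_core (a c1 c2 c3 X1 X2 X3 : G) (n : ℕ)
    (ha : a * a = 1) (hc1 : c1 * c1 = 1) (hc2 : c2 * c2 = 1) (hc3 : c3 * c3 = 1)
    (i1 : X1⁻¹ = a * c1 * X1 * c1 * a) (i2 : X2⁻¹ = a * c2 * X2 * c2 * a)
    (i3 : X3⁻¹ = a * c3 * X3 * c3 * a)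
    (c1X2 : Commute c1 X2) (c1X3 : Commute c1 X3) (c2X1 : Commute c2 X1) (c2X3 : Commute c2 X3)
    (c3X1 : Commute c3 X1) (c3X2 : Commute c3 X2)
    (k12 : Commute c1 c2) (k13 : Commute c1 c3) (k23 : Commute c2 c3)
    (hS : (X1 * X2 * X3) ^ n = 1) : (X3 * X2 * X1) ^ n = 1 := by
  have hSinv : ((X1 * X2 * X3)⁻¹) ^ n = 1 := by rw [inv_pow, hS, inv_one]
  have e0 : (X1 * X2 * X3)⁻¹ =
      a * (c3 * X3 * c3 * c2 * X2 * c2 * c1 * X1 * c1) * a := by
    rw [mul_inv_rev, mul_inv_rev, i1, i2, i3]
    calc a * c3 * X3 * c3 * a * (a * c2 * X2 * c2 * a * (a * c1 * X1 * c1 * a))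
        = a * c3 * X3 * c3 * (a * a) * c2 * X2 * c2 * (a * a) * c1 * X1 * c1 * a := by group
      _ = a * (c3 * X3 * c3 * c2 * X2 * c2 * c1 * X1 * c1) * a := by rw [ha]; group
  rw [e0] at hSinv
  have h1 := pow_eq_one_of_conj_invol a _ ha n hSinv
  -- pull out `c3`
  have c3R : Commute c3 (c2 * X2 * c2 * c1 * X1 * c1) :=
    ((((k23.symm.mul_right c3X2).mul_right k23.symm).mul_right k13.symm).mul_right c3X1).mul_right
      k13.symm
  have e1 : c3 * X3 * c3 * c2 * X2 * c2 * c1 * X1 * c1 =
      c3 * (X3 * c2 * X2 * c2 * c1 * X1 * c1) * c3 := by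
    calc c3 * X3 * c3 * c2 * X2 * c2 * c1 * X1 * c1
        = c3 * X3 * (c3 * (c2 * X2 * c2 * c1 * X1 * c1)) := by group
      _ = c3 * X3 * ((c2 * X2 * c2 * c1 * X1 * c1) * c3) := by rw [c3R.eq]
      _ = c3 * (X3 * c2 * X2 * c2 * c1 * X1 * c1) * c3 := by group
  rw [e1] at h1
  have h2 := pow_eq_one_of_conj_invol c3 _ hc3 n h1
  -- pull out `c2`
  have c2R : Commute c2 (c1 * X1 * c1) := (k12.symm.mul_right c2X1).mul_right k12.symm
  have e2 : X3 * c2 * X2 * c2 * c1 * X1 * c1 = c2 * (X3 * X2 * c1 * X1 * c1) * c2 := by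
    calc X3 * c2 * X2 * c2 * c1 * X1 * c1
        = (X3 * c2) * X2 * (c2 * (c1 * X1 * c1)) := by group
      _ = (c2 * X3) * X2 * ((c1 * X1 * c1) * c2) := by rw [c2X3.eq, c2R.eq]
      _ = c2 * (X3 * X2 * c1 * X1 * c1) * c2 := by group
  rw [e2] at h2
  have h3 := pow_eq_one_of_conj_invol c2 _ hc2 n h2
  -- pull out `c1`
  have c1R : Commute c1 (X3 * X2) := c1X3.mul_right c1X2
  have e3 : X3 * X2 * c1 * X1 * c1 = c1 * (X3 * X2 * X1) * c1 := by
    calc X3 * X2 * c1 * X1 * c1 = ((X3 * X2) * c1) * X1 * c1 := by group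
      _ = (c1 * (X3 * X2)) * X1 * c1 := by rw [c1R.eq]
      _ = c1 * (X3 * X2 * X1) * c1 := by group
  rw [e3] at h3
  exact pow_eq_one_of_conj_invol c1 _ hc1 n h3

/-- the spider relation is invariant under the reversal of the order of the arms -/
theorem spider_rev (a b1 c1 b2 c2 b3 c3 : G) (n : ℕ)
    (ha : a * a = 1) (hb1 : b1 * b1 = 1) (hb2 : b2 * b2 = 1) (hb3 : b3 * b3 = 1)
    (hc1 : c1 * c1 = 1) (hc2 : c2 * c2 = 1) (hc3 : c3 * c3 = 1)
    (k1a : Commute c1 a) (k2a : Commute c2 a) (k3a : Commute c3 a)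
    (k1b2 : Commute c1 b2) (k1b3 : Commute c1 b3) (k2b1 : Commute c2 b1) (k2b3 : Commute c2 b3)
    (k3b1 : Commute c3 b1) (k3b2 : Commute c3 b2)
    (k12 : Commute c1 c2) (k13 : Commute c1 c3) (k23 : Commute c2 c3)
    (h : (a * b1 * c1 * a * b2 * c2 * a * b3 * c3) ^ n = 1) :
    (a * b3 * c3 * a * b2 * c2 * a * b1 * c1) ^ n = 1 := by
  have hS : ((a * b1 * c1) * (a * b2 * c2) * (a * b3 * c3)) ^ n = 1 := by
    have e : (a * b1 * c1) * (a * b2 * c2) * (a * b3 * c3) =
        a * b1 * c1 * a * b2 * c2 * a * b3 * c3 := by group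
    rw [e]; exact h
  have key := rev_core a c1 c2 c3 (a * b1 * c1) (a * b2 * c2) (a * b3 * c3) n ha hc1 hc2 hc3
    (arm_inv a b1 c1 ha hb1 hc1 k1a.eq) (arm_inv a b2 c2 ha hb2 hc2 k2a.eq)
    (arm_inv a b3 c3 ha hb3 hc3 k3a.eq)
    ((k1a.mul_right k1b2).mul_right k12) ((k1a.mul_right k1b3).mul_right k13)
    ((k2a.mul_right k2b1).mul_right k12.symm) ((k2a.mul_right k2b3).mul_right k23)
    ((k3a.mul_right k3b1).mul_right k13.symm) ((k3a.mul_right k3b2).mul_right k23.symm)
    k12 k13 k23 hS
  have e4 : a * b3 * c3 * a * b2 * c2 * a * b1 * c1 =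
      (a * b3 * c3) * (a * b2 * c2) * (a * b1 * c1) := by group
  rw [e4]; exact key

end Spider

end Cfsg.Agent.Lib.Helper28.Y555
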