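import Cfsg.Agent.Lib.Helper28.Y555.FDefs

set_option autoImplicit false
set_option linter.unusedVariables false
set_option Elab.async false

namespace Cfsg.Agent.Lib.Helper28.Y555.FT

open Cfsg.Spor.Fi23 (Gen)
open Cfsg.Agent.Lib.Helper28.TC
open Cfsg.Agent.Lib.Helper28.Fi23x31671 (tf nn)

noncomputable section

theorem chkA_blk31 : allRange (guard nn chkA) 8 (31 * 2 ^ 8) = true := by decide +kernel
theorem chkA_blk32 : allRange (guard nn chkA) 8 (32 * 2 ^ 8) = true := by decide +kernel
theorem chkA_blk33 : allRange (guard nn chkA) 8 (33 * 2 ^ 8) = true := by decide +kernel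
theorem chkA_blk34 : allRange (guard nn chkA) 8 (34 * 2 ^ 8) = true := by decide +kernel
theorem chkA_blk35 : allRange (guard nn chkA) 8 (35 * 2 ^ 8) = true := by decide +kernel
theorem chkA_blk36 : allRange (guard nn chkA) 8 (36 * 2 ^ 8) = true := by decide +kernel
theorem chkA_blk37 : allRange (guard nn chkA) 8 (37 * 2 ^ 8) = true := by decide +kernel
theorem chkA_blk38 : allRange (guard nn chkA) 8 (38 * 2 ^ 8) = true := by decide +kernel
theorem chkA_blk39 : allRange (guard nn chkA) 8 (39 * 2 ^ 8) = true := by decide +kernel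
theorem chkA_blk40 : allRange (guard nn chkA) 8 (40 * 2 ^ 8) = true := by decide +kernel
theorem chkA_blk41 : allRange (guard nn chkA) 8 (41 * 2 ^ 8) = true := by decide +kernel
theorem chkA_blk42 : allRange (guard nn chkA) 8 (42 * 2 ^ 8) = true := by decide +kernel
theorem chkA_blk43 : allRange (guard nn chkA) 8 (43 * 2 ^ 8) = true := by decide +kernel
theorem chkA_blk44 : allRange (guard nn chkA) 8 (44 * 2 ^ 8) = true := by decide +kernel
theorem chkA_blk45 : allRange (guard nn chkA) 8 (45 * 2 ^ 8) = true := by decide +kernel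
theorem chkA_blk46 : allRange (guard nn chkA) 8 (46 * 2 ^ 8) = true := by decide +kernel
theorem chkA_blk47 : allRange (guard nn chkA) 8 (47 * 2 ^ 8) = true := by decide +kernel
theorem chkA_blk48 : allRange (guard nn chkA) 8 (48 * 2 ^ 8) = true := by decide +kernel
theorem chkA_blk49 : allRange (guard nn chkA) 8 (49 * 2 ^ 8) = true := by decide +kernel
theorem chkA_blk50 : allRange (guard nn chkA) 8 (50 * 2 ^ 8) = true := by decide +kernel
theorem chkA_blk51 : allRange (guard nn chkA) 8 (51 * 2 ^ 8) = true := by decide +kernel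
theorem chkA_blk52 : allRange (guard nn chkA) 8 (52 * 2 ^ 8) = true := by decide +kernel
theorem chkA_blk53 : allRange (guard nn chkA) 8 (53 * 2 ^ 8) = true := by decide +kernel
theorem chkA_blk54 : allRange (guard nn chkA) 8 (54 * 2 ^ 8) = true := by decide +kernel
theorem chkA_blk55 : allRange (guard nn chkA) 8 (55 * 2 ^ 8) = true := by decide +kernel
theorem chkA_blk56 : allRange (guard nn chkA) 8 (56 * 2 ^ 8) = true := by decide +kernel
theorem chkA_blk57 : allRange (guard nn chkA) 8 (57 * 2 ^ 8) = true := by decide +kernel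
theorem chkA_blk58 : allRange (guard nn chkA) 8 (58 * 2 ^ 8) = true := by decide +kernel
theorem chkA_blk59 : allRange (guard nn chkA) 8 (59 * 2 ^ 8) = true := by decide +kernel
theorem chkA_blk60 : allRange (guard nn chkA) 8 (60 * 2 ^ 8) = true := by decide +kernel
theorem chkA_blk61 : allRange (guard nn chkA) 8 (61 * 2 ^ 8) = true := by decide +kernel

end

end Cfsg.Agent.Lib.Helper28.Y555.FT
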