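import Cfsg.Agent.Lib.Helper28.Y555.FDefs

set_option autoImplicit false
set_option linter.unusedVariables false
set_option Elab.async false

namespace Cfsg.Agent.Lib.Helper28.Y555.FT

open Cfsg.Spor.Fi23 (Gen)
open Cfsg.Agent.Lib.Helper28.TC
open Cfsg.Agent.Lib.Helper28.Fi23x31671 (tf nn)

noncomputable section

theorem chkA_blk62 : allRange (guard nn chkA) 8 (62 * 2 ^ 8) = true := by decide +kernel
theorem chkA_blk63 : allRange (guard nn chkA) 8 (63 * 2 ^ 8) = true := by decide +kernel
theorem chkA_blk64 : allRange (guard nn chkA) 8 (64 * 2 ^ 8) = true := by decide +kernel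
theorem chkA_blk65 : allRange (guard nn chkA) 8 (65 * 2 ^ 8) = true := by decide +kernel
theorem chkA_blk66 : allRange (guard nn chkA) 8 (66 * 2 ^ 8) = true := by decide +kernel
theorem chkA_blk67 : allRange (guard nn chkA) 8 (67 * 2 ^ 8) = true := by decide +kernel
theorem chkA_blk68 : allRange (guard nn chkA) 8 (68 * 2 ^ 8) = true := by decide +kernel
theorem chkA_blk69 : allRange (guard nn chkA) 8 (69 * 2 ^ 8) = true := by decide +kernel
theorem chkA_blk70 : allRange (guard nn chkA) 8 (70 * 2 ^ 8) = true := by decide +kernel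
theorem chkA_blk71 : allRange (guard nn chkA) 8 (71 * 2 ^ 8) = true := by decide +kernel
theorem chkA_blk72 : allRange (guard nn chkA) 8 (72 * 2 ^ 8) = true := by decide +kernel
theorem chkA_blk73 : allRange (guard nn chkA) 8 (73 * 2 ^ 8) = true := by decide +kernel
theorem chkA_blk74 : allRange (guard nn chkA) 8 (74 * 2 ^ 8) = true := by decide +kernel
theorem chkA_blk75 : allRange (guard nn chkA) 8 (75 * 2 ^ 8) = true := by decide +kernel
theorem chkA_blk76 : allRange (guard nn chkA) 8 (76 * 2 ^ 8) = true := by decide +kernel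
theorem chkA_blk77 : allRange (guard nn chkA) 8 (77 * 2 ^ 8) = true := by decide +kernel
theorem chkA_blk78 : allRange (guard nn chkA) 8 (78 * 2 ^ 8) = true := by decide +kernel
theorem chkA_blk79 : allRange (guard nn chkA) 8 (79 * 2 ^ 8) = true := by decide +kernel
theorem chkA_blk80 : allRange (guard nn chkA) 8 (80 * 2 ^ 8) = true := by decide +kernel
theorem chkA_blk81 : allRange (guard nn chkA) 8 (81 * 2 ^ 8) = true := by decide +kernel
theorem chkA_blk82 : allRange (guard nn chkA) 8 (82 * 2 ^ 8) = true := by decide +kernel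
theorem chkA_blk83 : allRange (guard nn chkA) 8 (83 * 2 ^ 8) = true := by decide +kernel
theorem chkA_blk84 : allRange (guard nn chkA) 8 (84 * 2 ^ 8) = true := by decide +kernel
theorem chkA_blk85 : allRange (guard nn chkA) 8 (85 * 2 ^ 8) = true := by decide +kernel
theorem chkA_blk86 : allRange (guard nn chkA) 8 (86 * 2 ^ 8) = true := by decide +kernel
theorem chkA_blk87 : allRange (guard nn chkA) 8 (87 * 2 ^ 8) = true := by decide +kernel
theorem chkA_blk88 : allRange (guard nn chkA) 8 (88 * 2 ^ 8) = true := by decide +kernel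
theorem chkA_blk89 : allRange (guard nn chkA) 8 (89 * 2 ^ 8) = true := by decide +kernel
theorem chkA_blk90 : allRange (guard nn chkA) 8 (90 * 2 ^ 8) = true := by decide +kernel
theorem chkA_blk91 : allRange (guard nn chkA) 8 (91 * 2 ^ 8) = true := by decide +kernel
theorem chkA_blk92 : allRange (guard nn chkA) 8 (92 * 2 ^ 8) = true := by decide +kernel

end

end Cfsg.Agent.Lib.Helper28.Y555.FT
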