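import Cfsg.Agent.Lib.Helper28.Y555.FDefs

set_option autoImplicit false
set_option linter.unusedVariables false
set_option Elab.async false

namespace Cfsg.Agent.Lib.Helper28.Y555.FT

open Cfsg.Spor.Fi23 (Gen)
open Cfsg.Agent.Lib.Helper28.TC
open Cfsg.Agent.Lib.Helper28.Fi23x31671 (tf nn)

noncomputable section

theorem chkA_blk93 : allRange (guard nn chkA) 8 (93 * 2 ^ 8) = true := by decide +kernel
theorem chkA_blk94 : allRange (guard nn chkA) 8 (94 * 2 ^ 8) = true := by decide +kernel
theorem chkA_blk95 : allRange (guard nn chkA) 8 (95 * 2 ^ 8) = true := by decide +kernel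
theorem chkA_blk96 : allRange (guard nn chkA) 8 (96 * 2 ^ 8) = true := by decide +kernel
theorem chkA_blk97 : allRange (guard nn chkA) 8 (97 * 2 ^ 8) = true := by decide +kernel
theorem chkA_blk98 : allRange (guard nn chkA) 8 (98 * 2 ^ 8) = true := by decide +kernel
theorem chkA_blk99 : allRange (guard nn chkA) 8 (99 * 2 ^ 8) = true := by decide +kernel
theorem chkA_blk100 : allRange (guard nn chkA) 8 (100 * 2 ^ 8) = true := by decide +kernel
theorem chkA_blk101 : allRange (guard nn chkA) 8 (101 * 2 ^ 8) = true := by decide +kernel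
theorem chkA_blk102 : allRange (guard nn chkA) 8 (102 * 2 ^ 8) = true := by decide +kernel
theorem chkA_blk103 : allRange (guard nn chkA) 8 (103 * 2 ^ 8) = true := by decide +kernel
theorem chkA_blk104 : allRange (guard nn chkA) 8 (104 * 2 ^ 8) = true := by decide +kernel
theorem chkA_blk105 : allRange (guard nn chkA) 8 (105 * 2 ^ 8) = true := by decide +kernel
theorem chkA_blk106 : allRange (guard nn chkA) 8 (106 * 2 ^ 8) = true := by decide +kernel
theorem chkA_blk107 : allRange (guard nn chkA) 8 (107 * 2 ^ 8) = true := by decide +kernel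
theorem chkA_blk108 : allRange (guard nn chkA) 8 (108 * 2 ^ 8) = true := by decide +kernel
theorem chkA_blk109 : allRange (guard nn chkA) 8 (109 * 2 ^ 8) = true := by decide +kernel
theorem chkA_blk110 : allRange (guard nn chkA) 8 (110 * 2 ^ 8) = true := by decide +kernel
theorem chkA_blk111 : allRange (guard nn chkA) 8 (111 * 2 ^ 8) = true := by decide +kernel
theorem chkA_blk112 : allRange (guard nn chkA) 8 (112 * 2 ^ 8) = true := by decide +kernel
theorem chkA_blk113 : allRange (guard nn chkA) 8 (113 * 2 ^ 8) = true := by decide +kernel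
theorem chkA_blk114 : allRange (guard nn chkA) 8 (114 * 2 ^ 8) = true := by decide +kernel
theorem chkA_blk115 : allRange (guard nn chkA) 8 (115 * 2 ^ 8) = true := by decide +kernel
theorem chkA_blk116 : allRange (guard nn chkA) 8 (116 * 2 ^ 8) = true := by decide +kernel
theorem chkA_blk117 : allRange (guard nn chkA) 8 (117 * 2 ^ 8) = true := by decide +kernel
theorem chkA_blk118 : allRange (guard nn chkA) 8 (118 * 2 ^ 8) = true := by decide +kernel
theorem chkA_blk119 : allRange (guard nn chkA) 8 (119 * 2 ^ 8) = true := by decide +kernel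
theorem chkA_blk120 : allRange (guard nn chkA) 8 (120 * 2 ^ 8) = true := by decide +kernel
theorem chkA_blk121 : allRange (guard nn chkA) 8 (121 * 2 ^ 8) = true := by decide +kernel
theorem chkA_blk122 : allRange (guard nn chkA) 8 (122 * 2 ^ 8) = true := by decide +kernel
theorem chkA_blk123 : allRange (guard nn chkA) 8 (123 * 2 ^ 8) = true := by decide +kernel

end

end Cfsg.Agent.Lib.Helper28.Y555.FT
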