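import Cfsg.Agent.Lib.Helper28.Y555.FDefs

set_option autoImplicit false
set_option linter.unusedVariables false
set_option Elab.async false

namespace Cfsg.Agent.Lib.Helper28.Y555.FT

open Cfsg.Spor.Fi23 (Gen)
open Cfsg.Agent.Lib.Helper28.TC
open Cfsg.Agent.Lib.Helper28.Fi23x31671 (tf nn)

noncomputable section

theorem chkX_blk0 : allRange (guard nn chkX) 9 (0 * 2 ^ 9) = true := by decide +kernel
theorem chkX_blk1 : allRange (guard nn chkX) 9 (1 * 2 ^ 9) = true := by decide +kernel
theorem chkX_blk2 : allRange (guard nn chkX) 9 (2 * 2 ^ 9) = true := by decide +kernel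
theorem chkX_blk3 : allRange (guard nn chkX) 9 (3 * 2 ^ 9) = true := by decide +kernel
theorem chkX_blk4 : allRange (guard nn chkX) 9 (4 * 2 ^ 9) = true := by decide +kernel
theorem chkX_blk5 : allRange (guard nn chkX) 9 (5 * 2 ^ 9) = true := by decide +kernel
theorem chkX_blk6 : allRange (guard nn chkX) 9 (6 * 2 ^ 9) = true := by decide +kernel
theorem chkX_blk7 : allRange (guard nn chkX) 9 (7 * 2 ^ 9) = true := by decide +kernel
theorem chkX_blk8 : allRange (guard nn chkX) 9 (8 * 2 ^ 9) = true := by decide +kernel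
theorem chkX_blk9 : allRange (guard nn chkX) 9 (9 * 2 ^ 9) = true := by decide +kernel
theorem chkX_blk10 : allRange (guard nn chkX) 9 (10 * 2 ^ 9) = true := by decide +kernel
theorem chkX_blk11 : allRange (guard nn chkX) 9 (11 * 2 ^ 9) = true := by decide +kernel
theorem chkX_blk12 : allRange (guard nn chkX) 9 (12 * 2 ^ 9) = true := by decide +kernel
theorem chkX_blk13 : allRange (guard nn chkX) 9 (13 * 2 ^ 9) = true := by decide +kernel
theorem chkX_blk14 : allRange (guard nn chkX) 9 (14 * 2 ^ 9) = true := by decide +kernel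
theorem chkX_blk15 : allRange (guard nn chkX) 9 (15 * 2 ^ 9) = true := by decide +kernel
theorem chkX_blk16 : allRange (guard nn chkX) 9 (16 * 2 ^ 9) = true := by decide +kernel
theorem chkX_blk17 : allRange (guard nn chkX) 9 (17 * 2 ^ 9) = true := by decide +kernel
theorem chkX_blk18 : allRange (guard nn chkX) 9 (18 * 2 ^ 9) = true := by decide +kernel
theorem chkX_blk19 : allRange (guard nn chkX) 9 (19 * 2 ^ 9) = true := by decide +kernel
theorem chkX_blk20 : allRange (guard nn chkX) 9 (20 * 2 ^ 9) = true := by decide +kernel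
theorem chkX_blk21 : allRange (guard nn chkX) 9 (21 * 2 ^ 9) = true := by decide +kernel
theorem chkX_blk22 : allRange (guard nn chkX) 9 (22 * 2 ^ 9) = true := by decide +kernel
theorem chkX_blk23 : allRange (guard nn chkX) 9 (23 * 2 ^ 9) = true := by decide +kernel
theorem chkX_blk24 : allRange (guard nn chkX) 9 (24 * 2 ^ 9) = true := by decide +kernel
theorem chkX_blk25 : allRange (guard nn chkX) 9 (25 * 2 ^ 9) = true := by decide +kernel
theorem chkX_blk26 : allRange (guard nn chkX) 9 (26 * 2 ^ 9) = true := by decide +kernel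
theorem chkX_blk27 : allRange (guard nn chkX) 9 (27 * 2 ^ 9) = true := by decide +kernel
theorem chkX_blk28 : allRange (guard nn chkX) 9 (28 * 2 ^ 9) = true := by decide +kernel
theorem chkX_blk29 : allRange (guard nn chkX) 9 (29 * 2 ^ 9) = true := by decide +kernel
theorem chkX_blk30 : allRange (guard nn chkX) 9 (30 * 2 ^ 9) = true := by decide +kernel

end

end Cfsg.Agent.Lib.Helper28.Y555.FT
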