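import Cfsg.Agent.Lib.Helper28.Y555.FDefs

set_option autoImplicit false
set_option linter.unusedVariables false
set_option Elab.async false

namespace Cfsg.Agent.Lib.Helper28.Y555.FT

open Cfsg.Spor.Fi23 (Gen)
open Cfsg.Agent.Lib.Helper28.TC
open Cfsg.Agent.Lib.Helper28.Fi23x31671 (tf nn)

noncomputable section

theorem chkX_blk31 : allRange (guard nn chkX) 9 (31 * 2 ^ 9) = true := by decide +kernel
theorem chkX_blk32 : allRange (guard nn chkX) 9 (32 * 2 ^ 9) = true := by decide +kernel
theorem chkX_blk33 : allRange (guard nn chkX) 9 (33 * 2 ^ 9) = true := by decide +kernel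
theorem chkX_blk34 : allRange (guard nn chkX) 9 (34 * 2 ^ 9) = true := by decide +kernel
theorem chkX_blk35 : allRange (guard nn chkX) 9 (35 * 2 ^ 9) = true := by decide +kernel
theorem chkX_blk36 : allRange (guard nn chkX) 9 (36 * 2 ^ 9) = true := by decide +kernel
theorem chkX_blk37 : allRange (guard nn chkX) 9 (37 * 2 ^ 9) = true := by decide +kernel
theorem chkX_blk38 : allRange (guard nn chkX) 9 (38 * 2 ^ 9) = true := by decide +kernel
theorem chkX_blk39 : allRange (guard nn chkX) 9 (39 * 2 ^ 9) = true := by decide +kernel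
theorem chkX_blk40 : allRange (guard nn chkX) 9 (40 * 2 ^ 9) = true := by decide +kernel
theorem chkX_blk41 : allRange (guard nn chkX) 9 (41 * 2 ^ 9) = true := by decide +kernel
theorem chkX_blk42 : allRange (guard nn chkX) 9 (42 * 2 ^ 9) = true := by decide +kernel
theorem chkX_blk43 : allRange (guard nn chkX) 9 (43 * 2 ^ 9) = true := by decide +kernel
theorem chkX_blk44 : allRange (guard nn chkX) 9 (44 * 2 ^ 9) = true := by decide +kernel
theorem chkX_blk45 : allRange (guard nn chkX) 9 (45 * 2 ^ 9) = true := by decide +kernel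
theorem chkX_blk46 : allRange (guard nn chkX) 9 (46 * 2 ^ 9) = true := by decide +kernel
theorem chkX_blk47 : allRange (guard nn chkX) 9 (47 * 2 ^ 9) = true := by decide +kernel
theorem chkX_blk48 : allRange (guard nn chkX) 9 (48 * 2 ^ 9) = true := by decide +kernel
theorem chkX_blk49 : allRange (guard nn chkX) 9 (49 * 2 ^ 9) = true := by decide +kernel
theorem chkX_blk50 : allRange (guard nn chkX) 9 (50 * 2 ^ 9) = true := by decide +kernel
theorem chkX_blk51 : allRange (guard nn chkX) 9 (51 * 2 ^ 9) = true := by decide +kernel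
theorem chkX_blk52 : allRange (guard nn chkX) 9 (52 * 2 ^ 9) = true := by decide +kernel
theorem chkX_blk53 : allRange (guard nn chkX) 9 (53 * 2 ^ 9) = true := by decide +kernel
theorem chkX_blk54 : allRange (guard nn chkX) 9 (54 * 2 ^ 9) = true := by decide +kernel
theorem chkX_blk55 : allRange (guard nn chkX) 9 (55 * 2 ^ 9) = true := by decide +kernel
theorem chkX_blk56 : allRange (guard nn chkX) 9 (56 * 2 ^ 9) = true := by decide +kernel
theorem chkX_blk57 : allRange (guard nn chkX) 9 (57 * 2 ^ 9) = true := by decide +kernel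
theorem chkX_blk58 : allRange (guard nn chkX) 9 (58 * 2 ^ 9) = true := by decide +kernel
theorem chkX_blk59 : allRange (guard nn chkX) 9 (59 * 2 ^ 9) = true := by decide +kernel
theorem chkX_blk60 : allRange (guard nn chkX) 9 (60 * 2 ^ 9) = true := by decide +kernel
theorem chkX_blk61 : allRange (guard nn chkX) 9 (61 * 2 ^ 9) = true := by decide +kernel

end

end Cfsg.Agent.Lib.Helper28.Y555.FT
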