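import Cfsg.Agent.Lib.Helper28.Y555.FChkA0
import Cfsg.Agent.Lib.Helper28.Y555.FChkA1
import Cfsg.Agent.Lib.Helper28.Y555.FChkA2
import Cfsg.Agent.Lib.Helper28.Y555.FChkA3
import Cfsg.Agent.Lib.Helper28.Y555.FChkX0
import Cfsg.Agent.Lib.Helper28.Y555.FChkX1

set_option autoImplicit false
set_option linter.unusedVariables false
set_option Elab.async false

namespace Cfsg.Agent.Lib.Helper28.Y555.FT

open Cfsg.Spor.Fi23 (Gen)
open Cfsg.Agent.Lib.Helper28.TC
open Cfsg.Agent.Lib.Helper28.Fi23x31671 (tf nn)

noncomputable section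

theorem chkA_all : ∀ i, i < nn → chkA i = true := by
  refine all_of_blocks nn chkA 8 124 (by decide) ?_
  intro k hk
  interval_cases k
  · exact chkA_blk0
  · exact chkA_blk1
  · exact chkA_blk2
  · exact chkA_blk3
  · exact chkA_blk4
  · exact chkA_blk5
  · exact chkA_blk6
  · exact chkA_blk7
  · exact chkA_blk8
  · exact chkA_blk9
  · exact chkA_blk10
  · exact chkA_blk11
  · exact chkA_blk12
  · exact chkA_blk13
  · exact chkA_blk14
  · exact chkA_blk15
  · exact chkA_blk16
  · exact chkA_blk17
  · exact chkA_blk18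
  · exact chkA_blk19
  · exact chkA_blk20
  · exact chkA_blk21
  · exact chkA_blk22
  · exact chkA_blk23
  · exact chkA_blk24
  · exact chkA_blk25
  · exact chkA_blk26
  · exact chkA_blk27
  · exact chkA_blk28
  · exact chkA_blk29
  · exact chkA_blk30
  · exact chkA_blk31
  · exact chkA_blk32
  · exact chkA_blk33
  · exact chkA_blk34
  · exact chkA_blk35
  · exact chkA_blk36
  · exact chkA_blk37
  · exact chkA_blk38
  · exact chkA_blk39
  · exact chkA_blk40
  · exact chkA_blk41
  · exact chkA_blk42
  · exact chkA_blk43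
  · exact chkA_blk44
  · exact chkA_blk45
  · exact chkA_blk46
  · exact chkA_blk47
  · exact chkA_blk48
  · exact chkA_blk49
  · exact chkA_blk50
  · exact chkA_blk51
  · exact chkA_blk52
  · exact chkA_blk53
  · exact chkA_blk54
  · exact chkA_blk55
  · exact chkA_blk56
  · exact chkA_blk57
  · exact chkA_blk58
  · exact chkA_blk59
  · exact chkA_blk60
  · exact chkA_blk61
  · exact chkA_blk62
  · exact chkA_blk63
  · exact chkA_blk64
  · exact chkA_blk65
  · exact chkA_blk66
  · exact chkA_blk67
  · exact chkA_blk68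
  · exact chkA_blk69
  · exact chkA_blk70
  · exact chkA_blk71
  · exact chkA_blk72
  · exact chkA_blk73
  · exact chkA_blk74
  · exact chkA_blk75
  · exact chkA_blk76
  · exact chkA_blk77
  · exact chkA_blk78
  · exact chkA_blk79
  · exact chkA_blk80
  · exact chkA_blk81
  · exact chkA_blk82
  · exact chkA_blk83
  · exact chkA_blk84
  · exact chkA_blk85
  · exact chkA_blk86
  · exact chkA_blk87
  · exact chkA_blk88
  · exact chkA_blk89
  · exact chkA_blk90
  · exact chkA_blk91
  · exact chkA_blk92
  · exact chkA_blk93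
  · exact chkA_blk94
  · exact chkA_blk95
  · exact chkA_blk96
  · exact chkA_blk97
  · exact chkA_blk98
  · exact chkA_blk99
  · exact chkA_blk100
  · exact chkA_blk101
  · exact chkA_blk102
  · exact chkA_blk103
  · exact chkA_blk104
  · exact chkA_blk105
  · exact chkA_blk106
  · exact chkA_blk107
  · exact chkA_blk108
  · exact chkA_blk109
  · exact chkA_blk110
  · exact chkA_blk111
  · exact chkA_blk112
  · exact chkA_blk113
  · exact chkA_blk114
  · exact chkA_blk115
  · exact chkA_blk116
  · exact chkA_blk117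
  · exact chkA_blk118
  · exact chkA_blk119
  · exact chkA_blk120
  · exact chkA_blk121
  · exact chkA_blk122
  · exact chkA_blk123

theorem chkX_all : ∀ i, i < nn → chkX i = true := by
  refine all_of_blocks nn chkX 9 62 (by decide) ?_
  intro k hk
  interval_cases k
  · exact chkX_blk0
  · exact chkX_blk1
  · exact chkX_blk2
  · exact chkX_blk3
  · exact chkX_blk4
  · exact chkX_blk5
  · exact chkX_blk6
  · exact chkX_blk7
  · exact chkX_blk8
  · exact chkX_blk9
  · exact chkX_blk10
  · exact chkX_blk11
  · exact chkX_blk12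
  · exact chkX_blk13
  · exact chkX_blk14
  · exact chkX_blk15
  · exact chkX_blk16
  · exact chkX_blk17
  · exact chkX_blk18
  · exact chkX_blk19
  · exact chkX_blk20
  · exact chkX_blk21
  · exact chkX_blk22
  · exact chkX_blk23
  · exact chkX_blk24
  · exact chkX_blk25
  · exact chkX_blk26
  · exact chkX_blk27
  · exact chkX_blk28
  · exact chkX_blk29
  · exact chkX_blk30
  · exact chkX_blk31
  · exact chkX_blk32
  · exact chkX_blk33
  · exact chkX_blk34
  · exact chkX_blk35
  · exact chkX_blk36
  · exact chkX_blk37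
  · exact chkX_blk38
  · exact chkX_blk39
  · exact chkX_blk40
  · exact chkX_blk41
  · exact chkX_blk42
  · exact chkX_blk43
  · exact chkX_blk44
  · exact chkX_blk45
  · exact chkX_blk46
  · exact chkX_blk47
  · exact chkX_blk48
  · exact chkX_blk49
  · exact chkX_blk50
  · exact chkX_blk51
  · exact chkX_blk52
  · exact chkX_blk53
  · exact chkX_blk54
  · exact chkX_blk55
  · exact chkX_blk56
  · exact chkX_blk57
  · exact chkX_blk58
  · exact chkX_blk59
  · exact chkX_blk60
  · exact chkX_blk61

end

end Cfsg.Agent.Lib.Helper28.Y555.FT
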