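/-
The ninth power `F` of a Coxeter element of the subdiagram of type `E₇` on `d, e, c, h, f, b, g` in the
presented Fi₂₃: it is an involution that commutes with `a, …, i` and is joined to `j`. These relations are
read off from the action on the 31671 cosets of `2·Fi₂₂`, which is faithful.
-/
import Cfsg.Agent.Lib.Helper28.Y555.Basic
import Cfsg.Agent.Lib.Helper28.Y555.FAll
import Cfsg.Agent.Lib.Helper28.Fi23Ord.Simple

set_option autoImplicit false

namespace Cfsg.Agent.Lib.Helper28.Y555

open Cfsg.Agent.Lib.Helper28.TC
open Cfsg.Agent.Lib.Helper28.Ord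
open Cfsg.Spor.Fi23 (Gen)
open Cfsg.Agent.Lib.Helper28.Fi23x31671 (tf nn)
open Cfsg.Agent.Lib.Helper28.Fi23Ord (GF gv)

/-- the substitution of the word of the new element for its letter -/
def subF : Option Gen → List Gen
  | none => FT.Fw
  | some y => [y]

theorem act_tfx (w : List (Option Gen)) (i : ℕ) (hi : i < nn) :
    act FT.tfx w i = act tf (w.flatMap subF) i ∧ act FT.tfx w i < nn := by
  induction w with
  | nil => exact ⟨rfl, hi⟩
  | cons x w ih =>
    obtain ⟨h1, h2⟩ := ih
    rw [act_cons, List.flatMap_cons, act_append, ← h1]
    cases x with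
    | none =>
      have h := FT.chkA_all _ h2
      unfold FT.chkA at h
      rw [band_eq_true, nbeq_eq_true, nlt_eq_true] at h
      exact ⟨h.1.symm, h.2⟩
    | some y =>
      exact ⟨rfl, Fi23x31671.T.bound y _ h2⟩

theorem wval_flatMap {α β : Type} {G : Type*} [Group G] (val : β → G) (s : α → List β)
    (w : List α) : wval val (w.flatMap s) = wval (fun o => wval val (s o)) w := by
  induction w with
  | nil => rfl
  | cons x w ih => rw [List.flatMap_cons, wval_append, wval_cons, ih]

/-- the new element of the presented Fi₂₃ -/
noncomputable def FF : GF := wval gv FT.Fw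

/-- the values of the extended letters -/
noncomputable def gx : Option Gen → GF
  | none => FF
  | some y => gv y

theorem xRel_one (w : List (Option Gen)) (hw : w ∈ FT.xRel) : wval gx w = 1 := by
  have h1 : wval gv (w.flatMap subF) = 1 := by
    apply Fi23Ord.wval_eq_one_of_fix
    intro i hi
    rw [← (act_tfx w i hi).1]
    exact relRowOK_spec FT.tfx FT.xRel i (FT.chkX_all i hi) w hw
  rw [wval_flatMap] at h1
  rw [← h1]
  apply wval_congr
  intro x
  cases x with
  | none => rfl
  | some y => simp [gx, subF, wval]

theorem FF_sq : FF * FF = 1 := by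
  have h := xRel_one [none, none] (by decide)
  simpa [wval, gx] using h

theorem FF_j : (FF * gv Gen.j) ^ 3 = 1 := by
  have h := xRel_one [none, some Gen.j, none, some Gen.j, none, some Gen.j] (by decide)
  simpa [wval, gx, pow_succ, mul_assoc] using h

theorem FF_comm (x : Gen) (hx : x ≠ Gen.j) : FF * gv x * FF * gv x = 1 := by
  have key : ∀ y : Gen, [none, some y, none, some y] ∈ FT.xRel → FF * gv y * FF * gv y = 1 := by
    intro y hy
    have h := xRel_one _ hy
    simpa [wval, gx, mul_assoc] using h
  cases x
  · exact key _ (by decide)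
  · exact key _ (by decide)
  · exact key _ (by decide)
  · exact key _ (by decide)
  · exact key _ (by decide)
  · exact key _ (by decide)
  · exact key _ (by decide)
  · exact absurd rfl hx
  · exact key _ (by decide)
  · exact key _ (by decide)

end Cfsg.Agent.Lib.Helper28.Y555
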