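/-
In the group presented on the diagram `Y₅₃₂` (the diagram of the presented Fi₂₃ with one more node `k` at the
end of its longest arm) by the Coxeter relations and the spider relation, the end node `k` is the ninth
power of the Coxeter element `d e c h f b g` of the subdiagram of type `E₇`.

The group `P` presented on `Y₄₃₂` by the Coxeter relations and the spider relation has order at most
`2·|Fi₂₃|` (coset enumerations along `Y₃₃₁ < Y₃₃₂ < Y₄₃₂`), and maps onto the presented Fi₂₃ and onto the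
group of order 2, so it is `2 × Fi₂₃`. Hence relations between words in the generators can be read off from the
permutation action of Fi₂₃ and a parity count; this gives the Coxeter relations of the ninth power `F` with
the generators of `P`, a homomorphism from the group on `Y₅₃₂` to `P`, and a coset enumeration shows that the group
on `Y₅₃₂` is generated by the nodes other than `k`.
-/
import Cfsg.Agent.Lib.Helper28.Y555.FRel
import Cfsg.Agent.Lib.Helper28.Y555.CF.Main
import Cfsg.Agent.Lib.Helper28.Y555.C31671.Main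
import Cfsg.Agent.Lib.Helper28.Y555.C28160.Main

set_option autoImplicit false

namespace Cfsg.Agent.Lib.Helper28.Y555

open Cfsg.Agent.Lib.Helper28.TC
open Cfsg.Agent.Lib.Helper28.Ord
open Cfsg.Agent.Lib.Helper28.Y555Sub
open Cfsg.Agent.Lib.Helper28.Fi23Sub
open Cfsg.Agent.Lib.Helper28.Fi23Ord (GF gv)
open Cfsg.Spor

/-- the group on `Y₅₃₂` -/
abbrev GK : Type := PresentedGroup CF.rels

/-- the group on `Y₄₃₂` -/
abbrev GP : Type := PresentedGroup C31671.rels

/-- the generators of the group on `Y₅₃₂` -/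
noncomputable abbrev gk (x : K11.Gen) : GK := pval CF.rels x

/-- the generators of the group on `Y₄₃₂` -/
noncomputable abbrev gp (x : P10.Gen) : GP := pval C31671.rels x

/-! ### The order of the group on `Y₄₃₂` -/

theorem card_P9 : Finite (PresentedGroup C28160.rels) ∧
    Nat.card (PresentedGroup C28160.rels) ≤ 28160 * (3159 * (56 * (27 * (16 * (120))))) := by
  obtain ⟨hfin, hcard⟩ := Fi23Ord.card_Q8
  obtain ⟨e, _, _⟩ := C28160.cosetEquiv
  have hidx : (subH C28160.rels C28160.subS).index = 28160 :=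
    (Nat.card_congr e).trans (Nat.card_fin _)
  obtain ⟨ψ, hψ⟩ := exists_hom_of_words inclQ8 C28160.rels Fi23Ord.C3159.rels C28160.hinv
    (coxE Q8.edges ++ Fi23Ord.C3159.extraE) (fun r hr => (Fi23Ord.C3159.rels_iff r).1 hr)
    (coxE P9.edges ++ C28160.extraE) (fun e he => (C28160.rels_iff _).2 ⟨e, he, rfl⟩)
    (by decide +kernel)
  have hle : subH C28160.rels C28160.subS ≤ ψ.range := by
    apply subH_le_range inclQ8 C28160.rels Fi23Ord.C3159.rels C28160.subS ψ hψ
    rintro s (rfl | rfl | rfl | rfl | rfl | rfl | rfl | rfl)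
    · exact ⟨Q8.b, rfl⟩
    · exact ⟨Q8.c, rfl⟩
    · exact ⟨Q8.d, rfl⟩
    · exact ⟨Q8.e, rfl⟩
    · exact ⟨Q8.f, rfl⟩
    · exact ⟨Q8.g, rfl⟩
    · exact ⟨Q8.h, rfl⟩
    · exact ⟨Q8.i, rfl⟩
  obtain ⟨hf, hc⟩ := card_le_of_range ψ _ hle
  exact card_le_of_index _ 28160 _ (by decide) hidx hf (le_trans hc hcard)

theorem card_P10 : Finite GP ∧
    Nat.card GP ≤ 31671 * (28160 * (3159 * (56 * (27 * (16 * (120)))))) := by
  obtain ⟨hfin, hcard⟩ := card_P9
  obtain ⟨e, _, _⟩ := C31671.cosetEquiv
  have hidx : (subH C31671.rels C31671.subS).index = 31671 :=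
    (Nat.card_congr e).trans (Nat.card_fin _)
  obtain ⟨ψ, hψ⟩ := exists_hom_of_words P9.incl C31671.rels C28160.rels C31671.hinv
    (coxE P9.edges ++ C28160.extraE) (fun r hr => (C28160.rels_iff r).1 hr)
    (coxE P10.edges ++ C31671.extraE) (fun e he => (C31671.rels_iff _).2 ⟨e, he, rfl⟩)
    (by decide +kernel)
  have hle : subH C31671.rels C31671.subS ≤ ψ.range := by
    apply subH_le_range P9.incl C31671.rels C28160.rels C31671.subS ψ hψ
    rintro s (rfl | rfl | rfl | rfl | rfl | rfl | rfl | rfl | rfl)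
    · exact ⟨P9.a, rfl⟩
    · exact ⟨P9.b, rfl⟩
    · exact ⟨P9.c, rfl⟩
    · exact ⟨P9.d, rfl⟩
    · exact ⟨P9.e, rfl⟩
    · exact ⟨P9.f, rfl⟩
    · exact ⟨P9.g, rfl⟩
    · exact ⟨P9.h, rfl⟩
    · exact ⟨P9.i, rfl⟩
  obtain ⟨hf, hc⟩ := card_le_of_range ψ _ hle
  exact card_le_of_index _ 31671 _ (by decide) hidx hf (le_trans hc hcard)

instance finite_GP : Finite GP := card_P10.1

/-! ### The homomorphisms onto Fi₂₃ and onto the group of order 2 -/

theorem exists_piHom : ∃ π : GP →* GF, ∀ w : FreeGroup P10.Gen,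
    π (PresentedGroup.mk C31671.rels w) =
      PresentedGroup.mk Fi23x31671.rels (FreeGroup.map toFi23 w) :=
  exists_hom_of_words toFi23 Fi23x31671.rels C31671.rels Fi23x31671.hinv
    (coxE P10.edges ++ C31671.extraE) (fun r hr => (C31671.rels_iff r).1 hr)
    (coxE Cfsg.Spor.Fi23.edges ++ Fi23x31671.extraE)
    (fun e he => (Fi23x31671.rels_iff _).2 ⟨e, he, rfl⟩)
    (by decide +kernel)

/-- the homomorphism onto Fi₂₃ -/
noncomputable def piHom : GP →* GF := Classical.choose exists_piHom

theorem piHom_gp (x : P10.Gen) : piHom (gp x) = gv (toFi23 x) := by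
  have h := Classical.choose_spec exists_piHom (FreeGroup.of x)
  rw [FreeGroup.map.of] at h
  exact h

theorem piHom_wval (w : List P10.Gen) : piHom (wval gp w) = wval gv (w.map toFi23) := by
  rw [map_wval, ← wval_comp]
  exact wval_congr _ _ piHom_gp w

theorem piHom_surjective : Function.Surjective piHom := by
  rw [← MonoidHom.range_eq_top]
  apply Fi23Ord.eq_top_of_gens
  intro x
  cases x
  · exact ⟨gp .a, piHom_gp _⟩
  · exact ⟨gp .b, piHom_gp _⟩
  · exact ⟨gp .c, piHom_gp _⟩
  · exact ⟨gp .d, piHom_gp _⟩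
  · exact ⟨gp .e, piHom_gp _⟩
  · exact ⟨gp .f, piHom_gp _⟩
  · exact ⟨gp .g, piHom_gp _⟩
  · exact ⟨gp .j, piHom_gp _⟩
  · exact ⟨gp .h, piHom_gp _⟩
  · exact ⟨gp .i, piHom_gp _⟩

theorem neg_one_sq : ((-1 : ℤˣ) * (-1)) = 1 := by decide

theorem exists_sgnHom : ∃ σ : GP →* ℤˣ, ∀ x, σ (gp x) = -1 := by
  apply exists_hom_cox P10.edges P10.extra (fun _ => (-1 : ℤˣ))
  · intro x y
    rw [neg_one_sq, one_pow]
  · intro r hr
    simp only [P10.extra, List.mem_singleton] at hr
    subst hr
    simp only [map_pow, map_mul, FreeGroup.lift_apply_of]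
    decide

/-- the parity homomorphism -/
noncomputable def sgnHom : GP →* ℤˣ := Classical.choose exists_sgnHom

theorem sgnHom_gp (x : P10.Gen) : sgnHom (gp x) = -1 := Classical.choose_spec exists_sgnHom x

theorem sgnHom_wval (w : List P10.Gen) : sgnHom (wval gp w) = (-1) ^ w.length := by
  rw [map_wval, ← wval_const]
  exact wval_congr _ _ sgnHom_gp w

/-! ### The two homomorphisms together are injective -/

/-- the word of the relator `(a b c d e f h)^9` of Fi₂₃ -/
def zw : List P10.Gen := (List.replicate 9 [P10.Gen.a, .b, .c, .d, .e, .f, .h]).flatten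

/-- the element of the relator `(a b c d e f h)^9` -/
noncomputable def zP : GP := wval gp zw

theorem piHom_zP : piHom zP = 1 := by
  rw [zP, piHom_wval]
  have h : zw.map toFi23 =
      (List.replicate 9 [Fi23.Gen.a, .b, .c, .d, .e, .f, .h]).flatten := by decide
  rw [h, wval_pow]
  have h2 := Fi23Ord.rel_e7
  simpa [wval, mul_assoc] using h2

theorem sgnHom_zP : sgnHom zP = -1 := by
  rw [zP, sgnHom_wval]
  decide

theorem card_ker_piHom : Nat.card piHom.ker ≤ 2 := by
  have h1 : Nat.card piHom.ker * Nat.card piHom.range = Nat.card GP := by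
    rw [← Subgroup.index_ker, Subgroup.card_mul_index]
  have h2 : Nat.card piHom.range = 4089470473293004800 := by
    rw [MonoidHom.range_eq_top.2 piHom_surjective, Subgroup.card_top, Fi23Ord.card_Fi23]
  have h3 := card_P10.2
  rw [← h1, h2] at h3
  by_contra hlt
  have h4 : 3 ≤ Nat.card piHom.ker := Nat.succ_le_of_lt (Nat.lt_of_not_le hlt)
  have h5 := Nat.mul_le_mul_right 4089470473293004800 h4
  have h6 := le_trans h5 h3
  norm_num at h6

theorem eq_one_of_piHom_sgnHom (g : GP) (h1 : piHom g = 1) (h2 : sgnHom g = 1) : g = 1 := by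
  by_contra hne
  have hz1 : zP ∈ piHom.ker := piHom_zP
  have hg1 : g ∈ piHom.ker := h1
  have hzne : (⟨zP, hz1⟩ : piHom.ker) ≠ 1 := by
    intro h
    have h' : ((⟨zP, hz1⟩ : piHom.ker) : GP) = ((1 : piHom.ker) : GP) := congrArg Subtype.val h
    rw [Subgroup.coe_one] at h'
    change zP = 1 at h'
    have := sgnHom_zP
    rw [h', map_one] at this
    exact absurd this (by decide)
  have hgne : (⟨g, hg1⟩ : piHom.ker) ≠ 1 := by
    intro h
    have h' : ((⟨g, hg1⟩ : piHom.ker) : GP) = ((1 : piHom.ker) : GP) := congrArg Subtype.val h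
    rw [Subgroup.coe_one] at h'
    exact hne h'
  have h := eq_of_card_le_two card_ker_piHom _ _ hzne hgne
  have h' : ((⟨g, hg1⟩ : piHom.ker) : GP) = ((⟨zP, hz1⟩ : piHom.ker) : GP) := congrArg Subtype.val h
  change g = zP at h'
  rw [h', sgnHom_zP] at h2
  exact absurd h2 (by decide)

theorem eq_of_piHom_sgnHom (g g' : GP) (h1 : piHom g = piHom g') (h2 : sgnHom g = sgnHom g') :
    g = g' := by
  have h := eq_one_of_piHom_sgnHom (g * g'⁻¹) (by rw [map_mul, map_inv, h1, mul_inv_cancel])
    (by rw [map_mul, map_inv, h2, mul_inv_cancel])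
  exact mul_inv_eq_one.1 h

/-! ### The new element -/

/-- the word of the ninth power of the Coxeter element of type `E₇` -/
def FwP : List P10.Gen := (List.replicate 9 [P10.Gen.d, .e, .c, .h, .f, .b, .g]).flatten

/-- the new element of the group on `Y₄₃₂` -/
noncomputable def FP : GP := wval gp FwP

theorem piHom_FP : piHom FP = FF := by
  rw [FP, piHom_wval, FF]
  have h : FwP.map toFi23 = FT.Fw := by decide
  rw [h]

theorem sgnHom_FP : sgnHom FP = -1 := by
  rw [FP, sgnHom_wval]
  decide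

theorem FP_sq : FP * FP = 1 := by
  apply eq_one_of_piHom_sgnHom
  · rw [map_mul, piHom_FP, FF_sq]
  · rw [map_mul, sgnHom_FP, neg_one_sq]

theorem FP_j : (FP * gp .j) ^ 3 = 1 := by
  apply eq_one_of_piHom_sgnHom
  · rw [map_pow, map_mul, piHom_FP, piHom_gp]
    exact FF_j
  · rw [map_pow, map_mul, sgnHom_FP, sgnHom_gp, neg_one_sq, one_pow]

theorem FP_comm (x : P10.Gen) (hx : x ≠ .j) : (FP * gp x) ^ 2 = 1 := by
  apply eq_one_of_piHom_sgnHom
  · rw [map_pow, map_mul, piHom_FP, piHom_gp, pow_two, ← mul_assoc]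
    apply FF_comm
    cases x <;> first | exact absurd rfl hx | (intro h; cases h)
  · rw [map_pow, map_mul, sgnHom_FP, sgnHom_gp, neg_one_sq, one_pow]

/-! ### The homomorphism from the group on `Y₅₃₂` -/

/-- the images of the generators -/
noncomputable def rhoGen : K11.Gen → GP
  | .a => gp .a
  | .b => gp .b
  | .c => gp .c
  | .d => gp .d
  | .e => gp .e
  | .f => gp .f
  | .g => gp .g
  | .j => gp .j
  | .k => FP
  | .h => gp .h
  | .i => gp .i

theorem rhoGen_incl (x : P10.Gen) : rhoGen (P10.incl x) = gp x := by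
  cases x <;> rfl

theorem K11_cases (x : K11.Gen) : x = .k ∨ ∃ x', x = P10.incl x' := by
  cases x
  · exact Or.inr ⟨.a, rfl⟩
  · exact Or.inr ⟨.b, rfl⟩
  · exact Or.inr ⟨.c, rfl⟩
  · exact Or.inr ⟨.d, rfl⟩
  · exact Or.inr ⟨.e, rfl⟩
  · exact Or.inr ⟨.f, rfl⟩
  · exact Or.inr ⟨.g, rfl⟩
  · exact Or.inr ⟨.j, rfl⟩
  · exact Or.inl rfl
  · exact Or.inr ⟨.h, rfl⟩
  · exact Or.inr ⟨.i, rfl⟩

theorem label_incl (x y : P10.Gen) :
    coxLabel K11.edges (P10.incl x) (P10.incl y) = coxLabel P10.edges x y := by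
  cases x <;> cases y <;> rfl

theorem label_k (y : P10.Gen) : coxLabel K11.edges .k (P10.incl y) = if y = .j then 3 else 2 := by
  cases y <;> rfl

theorem label_k' (y : P10.Gen) : coxLabel K11.edges (P10.incl y) .k = if y = .j then 3 else 2 := by
  cases y <;> rfl

theorem mem_nodes_P10 (x : P10.Gen) : x ∈ coxNodes P10.edges := by
  cases x <;> decide

theorem pow_comm_eq_one {G : Type*} [Group G] (a b : G) (n : ℕ) (h : (a * b) ^ n = 1) :
    (b * a) ^ n = 1 := by
  have e : b * a = a⁻¹ * (a * b) * a⁻¹⁻¹ := by group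
  rw [e, conj_pow, h]; group

theorem FP_label (y : P10.Gen) : (FP * gp y) ^ (if y = .j then 3 else 2) = 1 := by
  by_cases hy : y = .j
  · rw [if_pos hy, hy]; exact FP_j
  · rw [if_neg hy]; exact FP_comm y hy

theorem rhoGen_cox (x y : K11.Gen) : (rhoGen x * rhoGen y) ^ coxLabel K11.edges x y = 1 := by
  rcases K11_cases x with rfl | ⟨x', rfl⟩ <;> rcases K11_cases y with rfl | ⟨y', rfl⟩
  · show (FP * FP) ^ 1 = 1
    rw [pow_one, FP_sq]
  · rw [label_k, rhoGen_incl]
    exact FP_label y'
  · rw [label_k', rhoGen_incl]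
    exact pow_comm_eq_one _ _ _ (FP_label x')
  · rw [label_incl, rhoGen_incl, rhoGen_incl]
    exact cox_rel P10.edges P10.extra x' y' (mem_nodes_P10 x') (mem_nodes_P10 y')

theorem exists_rhoHom : ∃ ρ : GK →* GP, ∀ x, ρ (gk x) = rhoGen x := by
  apply exists_hom_cox K11.edges K11.extra rhoGen rhoGen_cox
  intro r hr
  simp only [K11.extra, List.mem_singleton] at hr
  subst hr
  have h := extra_rel P10.edges P10.extra
    ((P10.d * P10.c * P10.b * P10.d * P10.e * P10.f * P10.d * P10.h * P10.i) ^ 10)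
    (by simp [P10.extra])
  rw [map_pow, map_mul, map_mul, map_mul, map_mul, map_mul, map_mul, map_mul, map_mul] at h
  simp only [map_pow, map_mul, FreeGroup.lift_apply_of]
  exact h

/-- the homomorphism from the group on `Y₅₃₂` to the group on `Y₄₃₂` -/
noncomputable def rhoHom : GK →* GP := Classical.choose exists_rhoHom

theorem rhoHom_gk (x : K11.Gen) : rhoHom (gk x) = rhoGen x := Classical.choose_spec exists_rhoHom x

/-! ### The inclusion of the group on `Y₄₃₂` -/

theorem exists_iotaHom : ∃ ι : GP →* GK, ∀ w : FreeGroup P10.Gen,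
    ι (PresentedGroup.mk C31671.rels w) = PresentedGroup.mk CF.rels (FreeGroup.map P10.incl w) :=
  exists_hom_of_words P10.incl CF.rels C31671.rels CF.hinv
    (coxE P10.edges ++ C31671.extraE) (fun r hr => (C31671.rels_iff r).1 hr)
    (coxE K11.edges ++ CF.extraE) (fun e he => (CF.rels_iff _).2 ⟨e, he, rfl⟩)
    (by decide +kernel)

/-- the homomorphism from the group on `Y₄₃₂` to the group on `Y₅₃₂` -/
noncomputable def iotaHom : GP →* GK := Classical.choose exists_iotaHom

theorem iotaHom_mk (w : FreeGroup P10.Gen) :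
    iotaHom (PresentedGroup.mk C31671.rels w) =
      PresentedGroup.mk CF.rels (FreeGroup.map P10.incl w) :=
  Classical.choose_spec exists_iotaHom w

theorem iotaHom_gp (x : P10.Gen) : iotaHom (gp x) = gk (P10.incl x) := by
  have h := iotaHom_mk (FreeGroup.of x)
  rw [FreeGroup.map.of] at h
  exact h

theorem iotaHom_surjective : Function.Surjective iotaHom := by
  rw [← MonoidHom.range_eq_top]
  obtain ⟨e, _, _⟩ := CF.cosetEquiv
  have hidx : (subH CF.rels CF.subS).index = 1 := (Nat.card_congr e).trans (Nat.card_fin _)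
  have htop : subH CF.rels CF.subS = ⊤ := Subgroup.index_eq_one.1 hidx
  have hle : subH CF.rels CF.subS ≤ iotaHom.range := by
    apply subH_le_range P10.incl CF.rels C31671.rels CF.subS iotaHom iotaHom_mk
    rintro s (rfl | rfl | rfl | rfl | rfl | rfl | rfl | rfl | rfl | rfl)
    · exact ⟨P10.a, rfl⟩
    · exact ⟨P10.b, rfl⟩
    · exact ⟨P10.c, rfl⟩
    · exact ⟨P10.d, rfl⟩
    · exact ⟨P10.e, rfl⟩
    · exact ⟨P10.f, rfl⟩
    · exact ⟨P10.g, rfl⟩
    · exact ⟨P10.j, rfl⟩
    · exact ⟨P10.h, rfl⟩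
    · exact ⟨P10.i, rfl⟩
  rw [htop] at hle
  exact top_le_iff.1 hle

theorem rho_iota (g : GP) : rhoHom (iotaHom g) = g := by
  have h : rhoHom.comp iotaHom = MonoidHom.id GP := by
    apply PresentedGroup.ext
    intro x
    show rhoHom (iotaHom (gp x)) = gp x
    rw [iotaHom_gp, rhoHom_gk, rhoGen_incl]
  exact DFunLike.congr_fun h g

theorem iota_rho (y : GK) : iotaHom (rhoHom y) = y := by
  obtain ⟨g, rfl⟩ := iotaHom_surjective y
  rw [rho_iota]

/-- the end node of the long arm is the ninth power of the Coxeter element of type `E₇` -/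
theorem gk_k_eq : gk .k = (gk .d * gk .e * gk .c * gk .h * gk .f * gk .b * gk .g) ^ 9 := by
  have h := iota_rho (gk .k)
  rw [rhoHom_gk] at h
  have h2 : rhoGen .k = FP := rfl
  rw [h2, FP, map_wval] at h
  rw [← h, FwP, wval_pow]
  simp only [wval_cons, wval_nil, iotaHom_gp, P10.incl, mul_one, mul_assoc]

end Cfsg.Agent.Lib.Helper28.Y555
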