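import Cfsg.Agent.Lib.Helper28.Y555.FDefs

set_option autoImplicit false
set_option linter.unusedVariables false
set_option Elab.async false

namespace Cfsg.Agent.Lib.Helper28.Y555.FT

open Cfsg.Spor.Fi23 (Gen)
open Cfsg.Agent.Lib.Helper28.TC
open Cfsg.Agent.Lib.Helper28.Fi23x31671 (tf nn)

noncomputable section

theorem chkA_blk0 : allRange (guard nn chkA) 8 (0 * 2 ^ 8) = true := by decide +kernel
theorem chkA_blk1 : allRange (guard nn chkA) 8 (1 * 2 ^ 8) = true := by decide +kernel
theorem chkA_blk2 : allRange (guard nn chkA) 8 (2 * 2 ^ 8) = true := by decide +kernel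
theorem chkA_blk3 : allRange (guard nn chkA) 8 (3 * 2 ^ 8) = true := by decide +kernel
theorem chkA_blk4 : allRange (guard nn chkA) 8 (4 * 2 ^ 8) = true := by decide +kernel
theorem chkA_blk5 : allRange (guard nn chkA) 8 (5 * 2 ^ 8) = true := by decide +kernel
theorem chkA_blk6 : allRange (guard nn chkA) 8 (6 * 2 ^ 8) = true := by decide +kernel
theorem chkA_blk7 : allRange (guard nn chkA) 8 (7 * 2 ^ 8) = true := by decide +kernel
theorem chkA_blk8 : allRange (guard nn chkA) 8 (8 * 2 ^ 8) = true := by decide +kernel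
theorem chkA_blk9 : allRange (guard nn chkA) 8 (9 * 2 ^ 8) = true := by decide +kernel
theorem chkA_blk10 : allRange (guard nn chkA) 8 (10 * 2 ^ 8) = true := by decide +kernel
theorem chkA_blk11 : allRange (guard nn chkA) 8 (11 * 2 ^ 8) = true := by decide +kernel
theorem chkA_blk12 : allRange (guard nn chkA) 8 (12 * 2 ^ 8) = true := by decide +kernel
theorem chkA_blk13 : allRange (guard nn chkA) 8 (13 * 2 ^ 8) = true := by decide +kernel
theorem chkA_blk14 : allRange (guard nn chkA) 8 (14 * 2 ^ 8) = true := by decide +kernel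
theorem chkA_blk15 : allRange (guard nn chkA) 8 (15 * 2 ^ 8) = true := by decide +kernel
theorem chkA_blk16 : allRange (guard nn chkA) 8 (16 * 2 ^ 8) = true := by decide +kernel
theorem chkA_blk17 : allRange (guard nn chkA) 8 (17 * 2 ^ 8) = true := by decide +kernel
theorem chkA_blk18 : allRange (guard nn chkA) 8 (18 * 2 ^ 8) = true := by decide +kernel
theorem chkA_blk19 : allRange (guard nn chkA) 8 (19 * 2 ^ 8) = true := by decide +kernel
theorem chkA_blk20 : allRange (guard nn chkA) 8 (20 * 2 ^ 8) = true := by decide +kernel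
theorem chkA_blk21 : allRange (guard nn chkA) 8 (21 * 2 ^ 8) = true := by decide +kernel
theorem chkA_blk22 : allRange (guard nn chkA) 8 (22 * 2 ^ 8) = true := by decide +kernel
theorem chkA_blk23 : allRange (guard nn chkA) 8 (23 * 2 ^ 8) = true := by decide +kernel
theorem chkA_blk24 : allRange (guard nn chkA) 8 (24 * 2 ^ 8) = true := by decide +kernel
theorem chkA_blk25 : allRange (guard nn chkA) 8 (25 * 2 ^ 8) = true := by decide +kernel
theorem chkA_blk26 : allRange (guard nn chkA) 8 (26 * 2 ^ 8) = true := by decide +kernel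
theorem chkA_blk27 : allRange (guard nn chkA) 8 (27 * 2 ^ 8) = true := by decide +kernel
theorem chkA_blk28 : allRange (guard nn chkA) 8 (28 * 2 ^ 8) = true := by decide +kernel
theorem chkA_blk29 : allRange (guard nn chkA) 8 (29 * 2 ^ 8) = true := by decide +kernel
theorem chkA_blk30 : allRange (guard nn chkA) 8 (30 * 2 ^ 8) = true := by decide +kernel

end

end Cfsg.Agent.Lib.Helper28.Y555.FT
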