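/-
In the group presented on the diagram `Y₅₅₅` by the Coxeter relations and the spider relation alone, each
end node of an arm is the ninth power of the Coxeter element of a subdiagram of type `E₇`: the relation
holds in the group on the subdiagram `Y₅₃₂`, in each of the six ways of embedding it.
-/
import Cfsg.Agent.Lib.Helper28.Y555.Arm
import Cfsg.Prelude.Def_Spor_M

set_option autoImplicit false

namespace Cfsg.Agent.Lib.Helper28.Y555

open Cfsg.Agent.Lib.Helper28.TC
open Cfsg.Agent.Lib.Helper28.Y555Sub
open Cfsg.Spor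

/-- the spider relator of `Y₅₅₅` -/
abbrev spiderY : FreeGroup Bimonster.Gen :=
  (Bimonster.a * Bimonster.b1 * Bimonster.c1 * Bimonster.a * Bimonster.b2 * Bimonster.c2 *
    Bimonster.a * Bimonster.b3 * Bimonster.c3) ^ 10

/-- the relators: the Coxeter relations and the spider relator -/
abbrev relsY : Set (FreeGroup Bimonster.Gen) :=
  coxRelators Bimonster.edges ∪ {r' | r' ∈ [spiderY]}

/-- the group on `Y₅₅₅` with the spider relation -/
abbrev GY : Type := PresentedGroup relsY

/-- its generators -/
noncomputable abbrev gy (x : Bimonster.Gen) : GY := pval relsY x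

theorem mem_nodes_Y (x : Bimonster.Gen) : x ∈ coxNodes Bimonster.edges := by
  cases x <;> decide

theorem gy_cox (x y : Bimonster.Gen) : (gy x * gy y) ^ coxLabel Bimonster.edges x y = 1 :=
  cox_rel Bimonster.edges [spiderY] x y (mem_nodes_Y x) (mem_nodes_Y y)

theorem gy_sq (x : Bimonster.Gen) : gy x * gy x = 1 := by
  have h := gy_cox x x
  have hl : coxLabel Bimonster.edges x x = 1 := by simp [coxLabel]
  rw [hl, pow_one] at h
  exact h

theorem gy_comm (x y : Bimonster.Gen) (hl : coxLabel Bimonster.edges x y = 2) :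
    Commute (gy x) (gy y) := by
  have h := gy_cox x y
  rw [hl, pow_two] at h
  have hx : (gy x)⁻¹ = gy x := inv_eq_of_mul_eq_one_left (gy_sq x)
  have hy : (gy y)⁻¹ = gy y := inv_eq_of_mul_eq_one_left (gy_sq y)
  have h2 : gy x * gy y = (gy y)⁻¹ * (gy x)⁻¹ := by
    rw [← mul_inv_rev]
    exact eq_inv_of_mul_eq_one_left h
  rw [hx, hy] at h2
  exact h2

/-! ### The six forms of the spider relation -/

theorem spider123 : (gy .a * gy .b1 * gy .c1 * gy .a * gy .b2 * gy .c2 * gy .a * gy .b3 * gy .c3) ^ 10
    = 1 := by
  have h := extra_rel Bimonster.edges [spiderY] spiderY (by simp)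
  rw [map_pow, map_mul, map_mul, map_mul, map_mul, map_mul, map_mul, map_mul, map_mul] at h
  exact h

theorem spider231 : (gy .a * gy .b2 * gy .c2 * gy .a * gy .b3 * gy .c3 * gy .a * gy .b1 * gy .c1) ^ 10
    = 1 := spider_rot _ _ _ _ _ _ _ _ spider123

theorem spider312 : (gy .a * gy .b3 * gy .c3 * gy .a * gy .b1 * gy .c1 * gy .a * gy .b2 * gy .c2) ^ 10
    = 1 := spider_rot _ _ _ _ _ _ _ _ spider231

theorem spider321 : (gy .a * gy .b3 * gy .c3 * gy .a * gy .b2 * gy .c2 * gy .a * gy .b1 * gy .c1) ^ 10
    = 1 :=
  spider_rev _ _ _ _ _ _ _ _ (gy_sq _) (gy_sq _) (gy_sq _) (gy_sq _) (gy_sq _) (gy_sq _) (gy_sq _)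
    (gy_comm _ _ rfl) (gy_comm _ _ rfl) (gy_comm _ _ rfl)
    (gy_comm _ _ rfl) (gy_comm _ _ rfl) (gy_comm _ _ rfl) (gy_comm _ _ rfl)
    (gy_comm _ _ rfl) (gy_comm _ _ rfl)
    (gy_comm _ _ rfl) (gy_comm _ _ rfl) (gy_comm _ _ rfl) spider123

theorem spider213 : (gy .a * gy .b2 * gy .c2 * gy .a * gy .b1 * gy .c1 * gy .a * gy .b3 * gy .c3) ^ 10
    = 1 := spider_rot _ _ _ _ _ _ _ _ spider321

theorem spider132 : (gy .a * gy .b1 * gy .c1 * gy .a * gy .b3 * gy .c3 * gy .a * gy .b2 * gy .c2) ^ 10
    = 1 := spider_rot _ _ _ _ _ _ _ _ spider213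

/-! ### The embeddings of `Y₅₃₂` -/

/-- the three arms -/
inductive ArmIx
  | one
  | two
  | three

/-- node `p` (counted from the centre, from 0) of an arm -/
def armGen : ArmIx → Fin 5 → Bimonster.Gen
  | .one, 0 => .b1
  | .one, 1 => .c1
  | .one, 2 => .d1
  | .one, 3 => .e1
  | .one, 4 => .f1
  | .two, 0 => .b2
  | .two, 1 => .c2
  | .two, 2 => .d2
  | .two, 3 => .e2
  | .two, 4 => .f2
  | .three, 0 => .b3
  | .three, 1 => .c3
  | .three, 2 => .d3
  | .three, 3 => .e3
  | .three, 4 => .f3

/-- the embedding of `Y₅₃₂` with its arms of length 5, 3, 2 on the arms `i`, `j`, `k` of `Y₅₅₅` -/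
def theta (i j k : ArmIx) : K11.Gen → Bimonster.Gen
  | .d => .a
  | .e => armGen i 0
  | .f => armGen i 1
  | .g => armGen i 2
  | .j => armGen i 3
  | .k => armGen i 4
  | .c => armGen j 0
  | .b => armGen j 1
  | .a => armGen j 2
  | .h => armGen k 0
  | .i => armGen k 1

theorem arm_rel (i j k : ArmIx)
    (hl : ∀ x y, coxLabel Bimonster.edges (theta i j k x) (theta i j k y) = coxLabel K11.edges x y)
    (hs : (gy .a * gy (armGen j 0) * gy (armGen j 1) * gy .a * gy (armGen i 0) * gy (armGen i 1) *
      gy .a * gy (armGen k 0) * gy (armGen k 1)) ^ 10 = 1) :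
    gy (armGen i 4) = (gy .a * gy (armGen i 0) * gy (armGen j 0) * gy (armGen k 0) *
      gy (armGen i 1) * gy (armGen j 1) * gy (armGen i 2)) ^ 9 := by
  obtain ⟨ψ, hψ⟩ := exists_hom_cox K11.edges K11.extra (fun x => gy (theta i j k x))
    (fun x y => by rw [← hl]; exact gy_cox _ _)
    (by
      intro r hr
      simp only [K11.extra, List.mem_singleton] at hr
      subst hr
      simp only [map_pow, map_mul, FreeGroup.lift_apply_of]
      exact hs)
  have h := congrArg ψ gk_k_eq
  rw [map_pow, map_mul, map_mul, map_mul, map_mul, map_mul, map_mul] at h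
  simp only [hψ] at h
  exact h

theorem label123 (x y : K11.Gen) : coxLabel Bimonster.edges (theta .one .two .three x)
    (theta .one .two .three y) = coxLabel K11.edges x y := by
  cases x <;> cases y <;> rfl

theorem label132 (x y : K11.Gen) : coxLabel Bimonster.edges (theta .one .three .two x)
    (theta .one .three .two y) = coxLabel K11.edges x y := by
  cases x <;> cases y <;> rfl

theorem label213 (x y : K11.Gen) : coxLabel Bimonster.edges (theta .two .one .three x)
    (theta .two .one .three y) = coxLabel K11.edges x y := by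
  cases x <;> cases y <;> rfl

theorem label231 (x y : K11.Gen) : coxLabel Bimonster.edges (theta .two .three .one x)
    (theta .two .three .one y) = coxLabel K11.edges x y := by
  cases x <;> cases y <;> rfl

theorem label312 (x y : K11.Gen) : coxLabel Bimonster.edges (theta .three .one .two x)
    (theta .three .one .two y) = coxLabel K11.edges x y := by
  cases x <;> cases y <;> rfl

theorem label321 (x y : K11.Gen) : coxLabel Bimonster.edges (theta .three .two .one x)
    (theta .three .two .one y) = coxLabel K11.edges x y := by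
  cases x <;> cases y <;> rfl

theorem mk_gen (x : Bimonster.Gen) : PresentedGroup.mk relsY (FreeGroup.of x) = gy x := rfl

/-- every relator of the presentation of the Bimonster holds -/
theorem extra_holds : ∀ r ∈ Bimonster.extra, PresentedGroup.mk relsY r = 1 := by
  intro r hr
  simp only [Bimonster.extra, List.mem_cons, List.not_mem_nil, or_false] at hr
  rcases hr with rfl | rfl | rfl | rfl | rfl | rfl | rfl
  · exact extra_rel Bimonster.edges [spiderY] spiderY (by simp)
  · rw [map_mul, map_inv, mul_inv_eq_one, map_pow, map_mul, map_mul, map_mul, map_mul, map_mul,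
      map_mul]
    exact arm_rel .one .two .three label123 spider213
  · rw [map_mul, map_inv, mul_inv_eq_one, map_pow, map_mul, map_mul, map_mul, map_mul, map_mul,
      map_mul]
    exact arm_rel .one .three .two label132 spider312
  · rw [map_mul, map_inv, mul_inv_eq_one, map_pow, map_mul, map_mul, map_mul, map_mul, map_mul,
      map_mul]
    exact arm_rel .two .one .three label213 spider123
  · rw [map_mul, map_inv, mul_inv_eq_one, map_pow, map_mul, map_mul, map_mul, map_mul, map_mul,
      map_mul]
    exact arm_rel .two .three .one label231 spider321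
  · rw [map_mul, map_inv, mul_inv_eq_one, map_pow, map_mul, map_mul, map_mul, map_mul, map_mul,
      map_mul]
    exact arm_rel .three .one .two label312 spider132
  · rw [map_mul, map_inv, mul_inv_eq_one, map_pow, map_mul, map_mul, map_mul, map_mul, map_mul,
      map_mul]
    exact arm_rel .three .two .one label321 spider231

end Cfsg.Agent.Lib.Helper28.Y555
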