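/-
Sub-presentations of the group `Y₅₅₅` with the spider relation: on a sub-diagram of shape `Y₅₃₂` (the
diagram of the presented Fi₂₃ with one more node `k` at the end of its longest arm), on the diagram
`Y₄₃₂` of Fi₂₃ and on `Y₃₃₂`, each with the Coxeter relations and the spider relator only.
They are used to show that the end node of an arm of `Y₅₅₅` equals the ninth power of the Coxeter
element of a sub-diagram of type `E₇`.
-/
import Cfsg.Prelude.Def_Spor_Fi23
import Cfsg.Agent.Lib.Helper28.Fi23Ord.Sub

set_option autoImplicit false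

namespace Cfsg.Agent.Lib.Helper28.Y555Sub

namespace K11

/-- The generators a, b, c, d, e, f, g, j, k, h, i. -/
inductive Gen
  | a
  | b
  | c
  | d
  | e
  | f
  | g
  | j
  | k
  | h
  | i
  deriving DecidableEq

/-- the generator a as a word -/ abbrev a : FreeGroup Gen := FreeGroup.of Gen.a
/-- the generator b as a word -/ abbrev b : FreeGroup Gen := FreeGroup.of Gen.b
/-- the generator c as a word -/ abbrev c : FreeGroup Gen := FreeGroup.of Gen.c
/-- the generator d as a word -/ abbrev d : FreeGroup Gen := FreeGroup.of Gen.d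
/-- the generator e as a word -/ abbrev e : FreeGroup Gen := FreeGroup.of Gen.e
/-- the generator f as a word -/ abbrev f : FreeGroup Gen := FreeGroup.of Gen.f
/-- the generator g as a word -/ abbrev g : FreeGroup Gen := FreeGroup.of Gen.g
/-- the generator j as a word -/ abbrev j : FreeGroup Gen := FreeGroup.of Gen.j
/-- the generator k as a word -/ abbrev k : FreeGroup Gen := FreeGroup.of Gen.k
/-- the generator h as a word -/ abbrev h : FreeGroup Gen := FreeGroup.of Gen.h
/-- the generator i as a word -/ abbrev i : FreeGroup Gen := FreeGroup.of Gen.i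

/-- The Coxeter graph `Y₅₃₂`: centre `d`, arms `c b a`, `e f g j k`, `h i`. -/
def edges : List (Gen × ℕ × Gen) :=
  [(.a, 3, .b), (.b, 3, .c), (.c, 3, .d), (.d, 3, .e), (.d, 3, .h), (.e, 3, .f), (.f, 3, .g), (.g, 3, .j), (.j, 3, .k), (.h, 3, .i)]

/-- The further relator: the spider relator of the presented Fi₂₃. -/
def extra : List (FreeGroup Gen) := [(d * c * b * d * e * f * d * h * i) ^ 10]

end K11
namespace P10

/-- The generators a, b, c, d, e, f, g, j, h, i. -/
inductive Gen
  | a
  | b
  | c
  | d
  | e
  | f
  | g
  | j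
  | h
  | i
  deriving DecidableEq

/-- the generator a as a word -/ abbrev a : FreeGroup Gen := FreeGroup.of Gen.a
/-- the generator b as a word -/ abbrev b : FreeGroup Gen := FreeGroup.of Gen.b
/-- the generator c as a word -/ abbrev c : FreeGroup Gen := FreeGroup.of Gen.c
/-- the generator d as a word -/ abbrev d : FreeGroup Gen := FreeGroup.of Gen.d
/-- the generator e as a word -/ abbrev e : FreeGroup Gen := FreeGroup.of Gen.e
/-- the generator f as a word -/ abbrev f : FreeGroup Gen := FreeGroup.of Gen.f
/-- the generator g as a word -/ abbrev g : FreeGroup Gen := FreeGroup.of Gen.g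
/-- the generator j as a word -/ abbrev j : FreeGroup Gen := FreeGroup.of Gen.j
/-- the generator h as a word -/ abbrev h : FreeGroup Gen := FreeGroup.of Gen.h
/-- the generator i as a word -/ abbrev i : FreeGroup Gen := FreeGroup.of Gen.i

/-- The Coxeter graph `Y₄₃₂` of the presented Fi₂₃. -/
def edges : List (Gen × ℕ × Gen) :=
  [(.a, 3, .b), (.b, 3, .c), (.c, 3, .d), (.d, 3, .e), (.d, 3, .h), (.e, 3, .f), (.f, 3, .g), (.g, 3, .j), (.h, 3, .i)]

/-- The further relator: the spider relator of the presented Fi₂₃. -/
def extra : List (FreeGroup Gen) := [(d * c * b * d * e * f * d * h * i) ^ 10]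

/-- the inclusion of the generators -/
def incl : Gen → K11.Gen
  | .a => .a
  | .b => .b
  | .c => .c
  | .d => .d
  | .e => .e
  | .f => .f
  | .g => .g
  | .j => .j
  | .h => .h
  | .i => .i

end P10
namespace P9

/-- The generators a, b, c, d, e, f, g, h, i. -/
inductive Gen
  | a
  | b
  | c
  | d
  | e
  | f
  | g
  | h
  | i
  deriving DecidableEq

/-- the generator a as a word -/ abbrev a : FreeGroup Gen := FreeGroup.of Gen.a
/-- the generator b as a word -/ abbrev b : FreeGroup Gen := FreeGroup.of Gen.b
/-- the generator c as a word -/ abbrev c : FreeGroup Gen := FreeGroup.of Gen.c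
/-- the generator d as a word -/ abbrev d : FreeGroup Gen := FreeGroup.of Gen.d
/-- the generator e as a word -/ abbrev e : FreeGroup Gen := FreeGroup.of Gen.e
/-- the generator f as a word -/ abbrev f : FreeGroup Gen := FreeGroup.of Gen.f
/-- the generator g as a word -/ abbrev g : FreeGroup Gen := FreeGroup.of Gen.g
/-- the generator h as a word -/ abbrev h : FreeGroup Gen := FreeGroup.of Gen.h
/-- the generator i as a word -/ abbrev i : FreeGroup Gen := FreeGroup.of Gen.i

/-- The Coxeter graph `Y₃₃₂`. -/
def edges : List (Gen × ℕ × Gen) :=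
  [(.a, 3, .b), (.b, 3, .c), (.c, 3, .d), (.d, 3, .e), (.d, 3, .h), (.e, 3, .f), (.f, 3, .g), (.h, 3, .i)]

/-- The further relator: the spider relator of the presented Fi₂₃. -/
def extra : List (FreeGroup Gen) := [(d * c * b * d * e * f * d * h * i) ^ 10]

/-- the inclusion of the generators -/
def incl : Gen → P10.Gen
  | .a => .a
  | .b => .b
  | .c => .c
  | .d => .d
  | .e => .e
  | .f => .f
  | .g => .g
  | .h => .h
  | .i => .i

end P9
/-- the generators of `Y₄₃₂` as generators of the presented Fi₂₃ -/
def toFi23 : P10.Gen → Cfsg.Spor.Fi23.Gen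
  | .a => .a
  | .b => .b
  | .c => .c
  | .d => .d
  | .e => .e
  | .f => .f
  | .g => .g
  | .j => .j
  | .h => .h
  | .i => .i

/-- the inclusion of the generators `b, …, i` -/
def inclQ8 : Cfsg.Agent.Lib.Helper28.Fi23Sub.Q8.Gen → P9.Gen
  | .b => .b
  | .c => .c
  | .d => .d
  | .e => .e
  | .f => .f
  | .g => .g
  | .h => .h
  | .i => .i

end Cfsg.Agent.Lib.Helper28.Y555Sub
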